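/-
Counting vectors of one norm in a non-degenerate subspace over the field with three elements.
-/
import Cfsg.Agent.H99.ReflectionsModThree

set_option autoImplicit false
set_option linter.unusedSectionVars false

namespace H73.Disc

open H43 H99.ReflThree

local instance factThreeCount : Fact (Nat.Prime 3) := ⟨Nat.prime_three⟩

variable {V : Type*} [AddCommGroup V] [Module (ZMod 3) V] [Finite V]
variable (Q : QuadraticForm (ZMod 3) V)

/-- A subspace without radical. -/
def Nd (K : Submodule (ZMod 3) V) : Prop := ∀ x ∈ K, x ≠ 0 → ∃ y ∈ K, polB Q x y ≠ 0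

/-- The vectors of norm `c` in a subspace. -/
def pts (K : Submodule (ZMod 3) V) (c : ZMod 3) : Set V := {x | x ∈ K ∧ Q x = c}

/-- The part of a subspace orthogonal to a vector. -/
def cut (K : Submodule (ZMod 3) V) (x : V) : Submodule (ZMod 3) V := K ⊓ LinearMap.ker (polB Q x)

variable {Q}

lemma mem_cut {K : Submodule (ZMod 3) V} {x y : V} : y ∈ cut Q K x ↔ y ∈ K ∧ polB Q x y = 0 :=
  Iff.rfl

lemma card_sub (K : Submodule (ZMod 3) V) : Nat.card K = 3 ^ Module.finrank (ZMod 3) K := by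
  rw [Module.natCard_eq_pow_finrank (K := ZMod 3) (V := K), Nat.card_zmod]

lemma self_ne {x : V} (hx : Q x ≠ 0) : polB Q x x ≠ 0 := by
  rw [polB_self]; exact mul_ne_zero zmod_two_ne_zero hx

lemma nd_cut {K : Submodule (ZMod 3) V} (hK : Nd Q K) {x : V} (hxK : x ∈ K) (hx : Q x ≠ 0) :
    Nd Q (cut Q K x) := by
  rintro y ⟨hy, hxy⟩ hy0
  have hxy' : polB Q x y = 0 := hxy
  obtain ⟨z, hz, hyz⟩ := hK y hy hy0
  refine ⟨z - (polB Q x z * polB Q x x) • x, ⟨K.sub_mem hz (K.smul_mem _ hxK), ?_⟩, ?_⟩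
  · show polB Q x _ = 0
    rw [map_sub, map_smul, smul_eq_mul, mul_assoc, zmod_sq_one _ (self_ne hx), mul_one, sub_self]
  · rw [map_sub, map_smul, polB_comm y x, hxy', smul_zero, sub_zero]
    exact hyz

lemma finrank_cut {K : Submodule (ZMod 3) V} {x : V} (hxK : x ∈ K) (hx : Q x ≠ 0) :
    Module.finrank (ZMod 3) (cut Q K x) + 1 = Module.finrank (ZMod 3) K := by
  set φ := (polB Q x).comp K.subtype
  have h1 := φ.finrank_range_add_finrank_ker
  have hr : LinearMap.range φ = ⊤ := LinearMap.range_eq_top.2 fun t =>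
    ⟨(t * polB Q x x) • ⟨x, hxK⟩, by
      show polB Q x ((t * polB Q x x) • x) = t
      rw [map_smul, smul_eq_mul, mul_assoc, zmod_sq_one _ (self_ne hx), mul_one]⟩
  have hk : Module.finrank (ZMod 3) (LinearMap.ker φ) = Module.finrank (ZMod 3) (cut Q K x) := by
    have e : (LinearMap.ker φ).map K.subtype = cut Q K x := by
      rw [LinearMap.ker_comp, Submodule.map_comap_subtype]; rfl
    rw [← e, Submodule.finrank_map_subtype_eq]
  rw [hr, finrank_top, Module.finrank_self, hk] at h1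
  omega

lemma nd_restrict [FiniteDimensional (ZMod 3) V] {K : Submodule (ZMod 3) V} (hK : Nd Q K) :
    (polB (Q.restrict K)).Nondegenerate := by
  refine restrict_nondeg K (eq_bot_iff.2 ?_)
  rintro x ⟨hx, hxo⟩
  rw [Submodule.mem_bot]
  by_contra h0
  obtain ⟨y, hy, hxy⟩ := hK x hx h0
  exact hxy (by rw [polB_comm]; exact hxo y hy)

lemma exists_pt [FiniteDimensional (ZMod 3) V] {K : Submodule (ZMod 3) V} (hK : Nd Q K)
    (h2 : 2 ≤ Module.finrank (ZMod 3) K) {a : ZMod 3} (ha : a ≠ 0) : ∃ x ∈ K, Q x = a := by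
  obtain ⟨x, hx⟩ := exists_qmap_eq (nd_restrict hK) h2 a ha
  exact ⟨x, x.2, hx⟩

open scoped Classical in
/-- Splitting off a hyperbolic plane. -/
theorem pts_split [FiniteDimensional (ZMod 3) V] {K : Submodule (ZMod 3) V} (hK : Nd Q K)
    (h3 : 3 ≤ Module.finrank (ZMod 3) K) (a : ZMod 3) :
    ∃ K' : Submodule (ZMod 3) V, Nd Q K' ∧
      Module.finrank (ZMod 3) K' + 2 = Module.finrank (ZMod 3) K ∧
      (pts Q K a).ncard = 2 * 3 ^ Module.finrank (ZMod 3) K' + 3 * (pts Q K' a).ncard := by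
  obtain ⟨e, heK, he0, he⟩ := exists_singular_in (Q := Q) K h3
  obtain ⟨w, hwK, hew⟩ := hK e heK he0
  obtain ⟨f, hfK, hef, hf⟩ : ∃ f ∈ K, polB Q e f = 1 ∧ Q f = 0 := by
    refine ⟨polB Q e w • w + (-Q w) • e, K.add_mem (K.smul_mem _ hwK) (K.smul_mem _ heK), ?_, ?_⟩
    · rw [map_add, map_smul, map_smul, polB_self, he, smul_eq_mul, zmod_sq_one _ hew]
      simp
    · rw [qmap_add_smul, qmap_smul, he, map_smul, LinearMap.smul_apply, polB_comm w e, smul_eq_mul,
        zmod_sq_one _ hew]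
      ring
  set K' := cut Q K e ⊓ LinearMap.ker (polB Q f) with hK'
  have hmem : ∀ x, x ∈ K' ↔ x ∈ K ∧ polB Q e x = 0 ∧ polB Q f x = 0 := fun x =>
    ⟨fun h => ⟨h.1.1, h.1.2, h.2⟩, fun h => ⟨⟨h.1, h.2.1⟩, h.2.2⟩⟩
  have hee : polB Q e e = 0 := by rw [polB_self, he, mul_zero]
  have hff : polB Q f f = 0 := by rw [polB_self, hf, mul_zero]
  have hfe : polB Q f e = 1 := by rw [polB_comm, hef]
  have hproj : ∀ z ∈ K, z - polB Q f z • e - polB Q e z • f ∈ K' := by
    intro z hz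
    refine (hmem _).2 ⟨K.sub_mem (K.sub_mem hz (K.smul_mem _ heK)) (K.smul_mem _ hfK), ?_, ?_⟩
    · simp [hee, hef]
    · simp [hfe, hff]
  have hnd : Nd Q K' := by
    intro x hx h0
    obtain ⟨hxK, hxe, hxf⟩ := (hmem x).1 hx
    obtain ⟨z, hz, hxz⟩ := hK x hxK h0
    refine ⟨_, hproj z hz, ?_⟩
    rw [map_sub, map_sub, map_smul, map_smul, polB_comm x e, polB_comm x f, hxe, hxf, smul_zero,
      smul_zero, sub_zero, sub_zero]
    exact hxz
  let T : ZMod 3 × ZMod 3 × K' ≃ K :=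
    { toFun := fun p => ⟨p.1 • e + p.2.1 • f + p.2.2, K.add_mem (K.add_mem (K.smul_mem _ heK)
        (K.smul_mem _ hfK)) ((hmem _).1 p.2.2.2).1⟩
      invFun := fun z => (polB Q f z, polB Q e z, ⟨_, hproj z z.2⟩)
      left_inv := fun ⟨s, t, ⟨w, hw⟩⟩ => by
        obtain ⟨-, h1, h2⟩ := (hmem w).1 hw
        refine Prod.ext ?_ (Prod.ext ?_ (Subtype.ext ?_))
        · simp [hfe, hff, h2]
        · simp [hee, hef, h1]
        · simp only [map_add, map_smul, hee, hef, hfe, hff, h1, h2, smul_eq_mul, mul_one, mul_zero,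
            add_zero, zero_add]
          module
      right_inv := fun z => Subtype.ext (by dsimp only; module) }
  have hQT : ∀ p, Q (T p : V) = p.1 * p.2.1 + Q (p.2.2 : V) := by
    rintro ⟨s, t, ⟨w, hw⟩⟩
    obtain ⟨-, h1, h2⟩ := (hmem w).1 hw
    show Q (s • e + t • f + w) = _
    rw [qmap_add, qmap_add, qmap_smul, qmap_smul, he, hf]
    simp only [map_add, LinearMap.add_apply, map_smul, LinearMap.smul_apply, hef, h1, h2, smul_eq_mul]
    ring
  have hdim : Module.finrank (ZMod 3) K' + 2 = Module.finrank (ZMod 3) K := by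
    have hc := (Nat.card_congr T).trans (card_sub K)
    rw [Nat.card_prod, Nat.card_prod, Nat.card_zmod, card_sub, ← pow_succ', ← pow_succ'] at hc
    exact Nat.pow_right_injective (show 2 ≤ 3 by norm_num) hc
  refine ⟨K', hnd, hdim, ?_⟩
  let E : pts Q K a ≃ Σ w : K', {p : ZMod 3 × ZMod 3 // p.1 * p.2 + Q (w : V) = a} :=
    { toFun := fun x => ⟨(T.symm ⟨x, x.2.1⟩).2.2, ((T.symm ⟨x, x.2.1⟩).1, (T.symm ⟨x, x.2.1⟩).2.1),
        by
          have := hQT (T.symm ⟨x, x.2.1⟩)
          rw [T.apply_symm_apply] at this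
          exact this.symm.trans x.2.2⟩
      invFun := fun p => ⟨T (p.2.1.1, p.2.1.2, p.1), (T _).2, (hQT _).trans p.2.2⟩
      left_inv := fun x => by
        apply Subtype.ext
        show ((T (T.symm ⟨x, x.2.1⟩)) : V) = x
        rw [T.apply_symm_apply]
      right_inv := fun ⟨w, ⟨⟨s, t⟩, h⟩⟩ => by
        have key : T.symm ⟨(T (s, t, w) : V), (T _).2⟩ = (s, t, w) := T.symm_apply_apply _
        refine Sigma.subtype_ext (congrArg (fun q => q.2.2) key) ?_
        exact congrArg (fun q => (q.1, q.2.1)) key }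
  haveI := Fintype.ofFinite K'
  rw [← Nat.card_coe_set_eq, Nat.card_congr E, Nat.card_sigma]
  have hfib : ∀ b : ZMod 3, Nat.card {p : ZMod 3 × ZMod 3 // p.1 * p.2 + b = a} =
      2 + 3 * if b = a then 1 else 0 := fun b => by
    rw [Nat.card_eq_fintype_card, Fintype.card_subtype]
    revert b a; decide
  simp only [hfib, Finset.sum_add_distrib, ← Finset.mul_sum, Finset.sum_const, Finset.card_univ,
    smul_eq_mul, Finset.sum_boole, Nat.cast_id]
  rw [← Nat.card_eq_fintype_card, card_sub, mul_comm]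
  congr 2
  rw [← Fintype.card_subtype, ← Nat.card_eq_fintype_card, ← Nat.card_coe_set_eq]
  exact Nat.card_congr (Equiv.subtypeSubtypeEquivSubtypeInter (fun v => v ∈ K') (fun v => Q v = a))

/-- A line has at most two vectors of non-zero norm. -/
theorem pts_one {K : Submodule (ZMod 3) V} (h1 : Module.finrank (ZMod 3) K = 1) {a : ZMod 3}
    (ha : a ≠ 0) : (pts Q K a).ncard ≤ 2 := by
  have hsub : pts Q K a ⊆ (K : Set V) \ {0} := fun x hx =>
    ⟨hx.1, fun h0 => ha (by rw [← hx.2, Set.mem_singleton_iff.1 h0, QuadraticMap.map_zero])⟩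
  refine (Set.ncard_le_ncard hsub (Set.toFinite _)).trans ?_
  rw [Set.ncard_sdiff_singleton_of_mem (show (0 : V) ∈ (K : Set V) from K.zero_mem)]
  rw [← Nat.card_coe_set_eq, show Nat.card (K : Set V) = Nat.card K from rfl, card_sub, h1]
  norm_num

theorem pts_three [FiniteDimensional (ZMod 3) V] {K : Submodule (ZMod 3) V} (hK : Nd Q K)
    (h : Module.finrank (ZMod 3) K = 3) {a : ZMod 3} (ha : a ≠ 0) : (pts Q K a).ncard ≤ 12 := by
  obtain ⟨K', -, hd, hc⟩ := pts_split hK h.ge a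
  have := pts_one (Q := Q) (K := K') (by omega) ha
  rw [hc, show Module.finrank (ZMod 3) K' = 1 by omega]
  omega

theorem pts_five [FiniteDimensional (ZMod 3) V] {K : Submodule (ZMod 3) V} (hK : Nd Q K)
    (h : Module.finrank (ZMod 3) K = 5) {a : ZMod 3} (ha : a ≠ 0) : (pts Q K a).ncard ≤ 90 := by
  obtain ⟨K', hK', hd, hc⟩ := pts_split hK (by omega) a
  have := pts_three hK' (by omega) ha
  rw [hc, show Module.finrank (ZMod 3) K' = 3 by omega]
  omega

theorem pts_lower [FiniteDimensional (ZMod 3) V] {K : Submodule (ZMod 3) V} (hK : Nd Q K)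
    (h : 3 ≤ Module.finrank (ZMod 3) K) (a : ZMod 3) :
    2 * 3 ^ (Module.finrank (ZMod 3) K - 2) ≤ (pts Q K a).ncard := by
  obtain ⟨K', -, hd, hc⟩ := pts_split hK h a
  rw [hc, show Module.finrank (ZMod 3) K - 2 = Module.finrank (ZMod 3) K' by omega]
  omega

theorem pts_le_pow (K : Submodule (ZMod 3) V) (a : ZMod 3) :
    (pts Q K a).ncard ≤ 3 ^ Module.finrank (ZMod 3) K := by
  rw [← card_sub, ← show Nat.card (K : Set V) = Nat.card K from rfl, Nat.card_coe_set_eq]
  exact Set.ncard_le_ncard (fun x hx => hx.1) (Set.toFinite _)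

end H73.Disc
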