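/-
Isometries over the field with three elements whose square is the negation: bounds for their number
from a splitting of the space into planes.
-/
import Cfsg.Agent.H73.Disc.Count

set_option autoImplicit false
set_option linter.unusedSectionVars false

namespace H73.Disc

open H43 H99.ReflThree
open scoped commutatorElement

local instance factThreeSquare : Fact (Nat.Prime 3) := ⟨Nat.prime_three⟩

variable {V : Type*} [AddCommGroup V] [Module (ZMod 3) V] [Finite V] [FiniteDimensional (ZMod 3) V]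
variable {Q : QuadraticForm (ZMod 3) V} {c : ZMod 3}

/-- Vectors of one norm in a subspace are moved to each other by commutators fixing its perp. -/
theorem exists_move (hQ : (polB Q).Nondegenerate) (hc : c ≠ 0) {K : Submodule (ZMod 3) V}
    (hK : Nd Q K) (h3 : 3 ≤ Module.finrank (ZMod 3) K) {w w' : V} (hw : w ∈ K) (hwc : Q w = c)
    (hw' : w' ∈ K) (hw'c : Q w' = c) :
    ∃ u ∈ commutator (orthGroup Q), u.1 w = w' ∧ ∀ z, (∀ y ∈ K, polB Q y z = 0) → u.1 z = z := by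
  have hgen : ReflGenerates (ZMod 3) V := reflGenerates_of_two_ne_zero zmod_two_ne_zero
  have hn : 2 ≤ Module.finrank (ZMod 3) V := by have := Submodule.finrank_le K; omega
  have hfix : ∀ a ∈ K, ∀ z, (∀ y ∈ K, polB Q y z = 0) → (refl Q a).1 z = z := fun a ha z hz =>
    refl_fix (by rw [polB_comm]; exact hz a ha)
  by_cases hq : Q (w - w') = 0
  · have hβ : polB Q w w' = 2 * c := by
      rw [qmap_sub, hwc, hw'c] at hq
      linear_combination -hq
    have hqa : Q (w + w') = c := by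
      rw [qmap_add, hwc, hw'c, hβ]
      exact (by decide : ∀ c : ZMod 3, c + c + 2 * c = c) c
    refine ⟨refl Q w' * refl Q (w + w'), refl_mul_refl_mem_commutator hQ hgen hn (hw'c ▸ hc)
      (hqa ▸ hc) (by rw [hqa, hw'c]), ?_, fun z hz => ?_⟩
    · have hBw : polB Q w (w + w') = c := by
        rw [map_add, polB_self, hwc, hβ]
        exact (by decide : ∀ c : ZMod 3, 2 * c + 2 * c = c) c
      rw [orth_mul_apply, refl_apply (w + w'), hqa, hBw, inv_mul_cancel₀ hc, one_smul,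
        show w - (w + w') = -w' by abel, map_neg, refl_self (hw'c ▸ hc), neg_neg]
    · rw [orth_mul_apply, hfix _ (K.add_mem hw hw') z hz, hfix _ hw' z hz]
  · obtain ⟨b, hb, hbq⟩ := exists_pt (nd_cut hK hw' (hw'c ▸ hc))
      (by have := finrank_cut hw' (hw'c.symm ▸ hc : Q w' ≠ 0); omega) hq
    refine ⟨refl Q b * refl Q (w - w'), refl_mul_refl_mem_commutator hQ hgen hn (hbq ▸ hq) hq
      (by rw [hbq]), ?_, fun z hz => ?_⟩
    · have hBw : polB Q w (w - w') = Q (w - w') := by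
        rw [map_sub, polB_self, qmap_sub, hwc, hw'c]; ring
      rw [orth_mul_apply, refl_apply (w - w'), hBw, inv_mul_cancel₀ hq, one_smul, sub_sub_cancel,
        refl_fix]
      exact (mem_cut.1 hb).2
    · rw [orth_mul_apply, hfix _ (K.sub_mem hw hw') z hz, hfix _ (mem_cut.1 hb).1 z hz]

/-- An isometry squaring to the negation. -/
def SqNeg (h : orthGroup Q) : Prop := ∀ x, h.1 (h.1 x) = -x

/-- The isometries of `S` agreeing with `h` on the perp of `K`. -/
def agree (S : Set (orthGroup Q)) (K : Submodule (ZMod 3) V) (h : orthGroup Q) : Set (orthGroup Q) :=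
  {g | g ∈ S ∧ ∀ z, (∀ y ∈ K, polB Q y z = 0) → g.1 z = h.1 z}

/-- The plane taken away from a subspace. -/
def cut2 (K : Submodule (ZMod 3) V) (x w : V) : Submodule (ZMod 3) V := cut Q (cut Q K x) w

variable {h : orthGroup Q} {K : Submodule (ZMod 3) V}

lemma SqNeg.skew (hh : SqNeg h) (x y : V) : polB Q (h.1 x) y = -polB Q x (h.1 y) := by
  rw [← orth_polB_map h (h.1 x) y, hh x, map_neg, LinearMap.neg_apply]

lemma SqNeg.self (hh : SqNeg h) (x : V) : polB Q x (h.1 x) = 0 := by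
  have := hh.skew x x
  rw [polB_comm] at this
  exact (by decide : ∀ t : ZMod 3, t = -t → t = 0) _ this

lemma SqNeg.inv_cut2 (hh : SqNeg h) (hK : ∀ y ∈ K, h.1 y ∈ K) {x y : V}
    (hy : y ∈ cut2 (Q := Q) K x (h.1 x)) : h.1 y ∈ cut2 (Q := Q) K x (h.1 x) := by
  obtain ⟨⟨hyK, hxy⟩, hwy⟩ := hy
  have hxy' : polB Q x y = 0 := hxy
  have hwy' : polB Q (h.1 x) y = 0 := hwy
  refine ⟨⟨hK y hyK, ?_⟩, ?_⟩
  · show polB Q x _ = 0
    rw [hh.skew] at hwy'
    exact neg_eq_zero.1 hwy'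
  · show polB Q (h.1 x) _ = 0
    rw [orth_polB_map, hxy']

lemma SqNeg.pt (hh : SqNeg h) (hK : ∀ y ∈ K, h.1 y ∈ K) {x : V} (hx : x ∈ K) (hxc : Q x = c) :
    h.1 x ∈ pts Q (cut Q K x) c :=
  ⟨⟨hK x hx, hh.self x⟩, by rw [orth_qmap, hxc]⟩

lemma agree_inv {S : Set (orthGroup Q)} (hS : ∀ g ∈ S, SqNeg g) (hh : SqNeg h)
    (hK : ∀ y ∈ K, h.1 y ∈ K) (hQ : (polB Q).Nondegenerate) {g : orthGroup Q}
    (hg : g ∈ agree S K h) : ∀ y ∈ K, g.1 y ∈ K := by
  intro y hy
  have : g.1 y ∈ (polB Q).orthogonal ((polB Q).orthogonal K) := fun u hu => by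
    have hu' : ∀ y ∈ K, polB Q y u = 0 := hu
    show polB Q u (g.1 y) = 0
    rw [polB_comm, (hS g hg.1).skew, hg.2 u hu', ← hh.skew]
    exact hu' _ (hK y hy)
  rwa [LinearMap.BilinForm.orthogonal_orthogonal hQ (polB_isRefl Q)] at this

/-- Perp of the smaller subspace. -/
lemma perp_split {x w z : V} (hx : x ∈ K) (hw : w ∈ cut Q K x) (hxc : Q x ≠ 0) (hwc : Q w ≠ 0)
    (hz : ∀ y ∈ cut2 (Q := Q) K x w, polB Q y z = 0) :
    ∀ y ∈ K, polB Q y (z - (polB Q x z * polB Q x x) • x - (polB Q w z * polB Q w w) • w) = 0 := by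
  intro y hy
  have hxw : polB Q x w = 0 := (mem_cut.1 hw).2
  set y' := y - (polB Q x y * polB Q x x) • x - (polB Q w y * polB Q w w) • w with hy'
  have hy'mem : y' ∈ cut2 (Q := Q) K x w := by
    refine ⟨⟨K.sub_mem (K.sub_mem hy (K.smul_mem _ hx)) (K.smul_mem _ (mem_cut.1 hw).1), ?_⟩, ?_⟩
    · show polB Q x y' = 0
      rw [hy', map_sub, map_sub, map_smul, map_smul, hxw, smul_zero, sub_zero, smul_eq_mul, mul_assoc,
        zmod_sq_one _ (self_ne hxc), mul_one, sub_self]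
    · show polB Q w y' = 0
      rw [hy', map_sub, map_sub, map_smul, map_smul, polB_comm w x, hxw, smul_zero, sub_zero,
        smul_eq_mul, mul_assoc, zmod_sq_one _ (self_ne hwc), mul_one, sub_self]
  have h1 := hz y' hy'mem
  rw [hy'] at h1
  simp only [map_sub, map_smul, LinearMap.sub_apply, LinearMap.smul_apply, smul_eq_mul] at h1 ⊢
  rw [polB_comm y x, polB_comm y w]
  linear_combination h1

lemma agree_step {S : Set (orthGroup Q)} (hS : ∀ g ∈ S, SqNeg g) {g g₁ : orthGroup Q} {x : V}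
    (hg : g ∈ agree S K h) (hg₁ : g₁ ∈ agree S K h) (hx : x ∈ K) (hxc : Q x = c) (hc : c ≠ 0)
    (hKg : ∀ y ∈ K, g₁.1 y ∈ K) (he : g.1 x = g₁.1 x) :
    g ∈ agree S (cut2 (Q := Q) K x (g₁.1 x)) g₁ := by
  refine ⟨hg.1, fun z hz => ?_⟩
  have hw := (hS g₁ hg₁.1).pt hKg hx hxc
  have hp := perp_split hx hw.1 (hxc ▸ hc) (hw.2.symm ▸ hc) hz
  have e1 := hg.2 _ hp
  have e2 := hg₁.2 _ hp
  rw [← e2] at e1
  have ew : g.1 (g₁.1 x) = g₁.1 (g₁.1 x) := by rw [hS g₁ hg₁.1, ← he, hS g hg.1]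
  simp only [map_sub, map_smul, he, ew, sub_left_inj] at e1
  exact e1

lemma cut2_facts (hK : Nd Q K) (hh : SqNeg h) (hKh : ∀ y ∈ K, h.1 y ∈ K) {x : V} (hx : x ∈ K)
    (hxc : Q x = c) (hc : c ≠ 0) : Nd Q (cut2 (Q := Q) K x (h.1 x)) ∧
      Module.finrank (ZMod 3) (cut2 (Q := Q) K x (h.1 x)) + 2 = Module.finrank (ZMod 3) K := by
  obtain ⟨hw, hwc⟩ := hh.pt hKh hx hxc
  have h1 := finrank_cut (Q := Q) hx (hxc ▸ hc)
  have h2 := finrank_cut (Q := Q) hw (hwc.symm ▸ hc)
  exact ⟨nd_cut (nd_cut hK hx (hxc ▸ hc)) hw (hwc.symm ▸ hc), by unfold cut2; omega⟩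

/-- One step of the upper bound. -/
theorem agree_le_step {S : Set (orthGroup Q)} (hS : ∀ g ∈ S, SqNeg g)
    (hQ : (polB Q).Nondegenerate) (hh : SqNeg h) (hKh : ∀ y ∈ K, h.1 y ∈ K)
    {x : V} (hx : x ∈ K) (hxc : Q x = c) (hc : c ≠ 0) {b : ℕ}
    (hrec : ∀ g ∈ agree S K h, (agree S (cut2 (Q := Q) K x (g.1 x)) g).ncard ≤ b) :
    (agree S K h).ncard ≤ b * (pts Q (cut Q K x) c).ncard := by
  classical
  haveI := finite_orthGroup (Q := Q)
  have hA := Set.toFinite (agree S K h)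
  have hW := Set.toFinite (pts Q (cut Q K x) c)
  rw [Set.ncard_eq_toFinset_card _ hA, Set.ncard_eq_toFinset_card _ hW]
  refine Finset.card_le_mul_card_image_of_maps_to (f := fun g : orthGroup Q => g.1 x) (fun g hg => ?_) b
    fun w _ => ?_
  · rw [Set.Finite.mem_toFinset] at hg ⊢
    exact (hS g hg.1).pt (agree_inv hS hh hKh hQ hg) hx hxc
  · by_cases hne : (hA.toFinset.filter fun g => g.1 x = w).Nonempty
    · obtain ⟨g₁, hg₁⟩ := hne
      rw [Finset.mem_filter, Set.Finite.mem_toFinset] at hg₁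
      refine le_trans ?_ (hrec g₁ hg₁.1)
      rw [← Set.ncard_coe_finset]
      refine Set.ncard_le_ncard (fun g hg => ?_) (Set.toFinite _)
      rw [Finset.mem_coe, Finset.mem_filter, Set.Finite.mem_toFinset] at hg
      exact agree_step hS hg.1 hg₁.1 hx hxc hc (agree_inv hS hh hKh hQ hg₁.1)
        (hg.2.trans hg₁.2.symm)
    · rw [Finset.not_nonempty_iff_eq_empty] at hne
      simp [hne]

lemma agree_zero {S : Set (orthGroup Q)} (h0 : Module.finrank (ZMod 3) K = 0) :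
    (agree S K h).ncard ≤ 1 := by
  rw [Submodule.finrank_eq_zero] at h0
  haveI := finite_orthGroup (Q := Q)
  exact (Set.ncard_le_one_iff (Set.toFinite _)).2 fun {a b} ha hb => orth_ext fun z => by
    have hz : ∀ y ∈ K, polB Q y z = 0 := fun y hy => by
      rw [h0, Submodule.mem_bot] at hy; simp [hy]
    rw [ha.2 z hz, hb.2 z hz]

/-- Upper bounds in dimensions two, four and six. -/
theorem agree_le {S : Set (orthGroup Q)} (hS : ∀ g ∈ S, SqNeg g) (hQ : (polB Q).Nondegenerate)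
    (hc : c ≠ 0) (hK : Nd Q K) (hh : SqNeg h) (hKh : ∀ y ∈ K, h.1 y ∈ K) :
    (Module.finrank (ZMod 3) K = 2 → (agree S K h).ncard ≤ 2) ∧
      (Module.finrank (ZMod 3) K = 4 → (agree S K h).ncard ≤ 24) ∧
      (Module.finrank (ZMod 3) K = 6 → (agree S K h).ncard ≤ 2160) := by
  have step : ∀ (m b M : ℕ),
      (∀ (K : Submodule (ZMod 3) V) (g : orthGroup Q), Nd Q K → SqNeg g → (∀ y ∈ K, g.1 y ∈ K) →
        Module.finrank (ZMod 3) K = m → (agree S K g).ncard ≤ b) →
      (∀ (K : Submodule (ZMod 3) V), Nd Q K → Module.finrank (ZMod 3) K = m + 1 →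
        (pts Q K c).ncard ≤ M) →
      ∀ (K : Submodule (ZMod 3) V) (g : orthGroup Q), Nd Q K → SqNeg g → (∀ y ∈ K, g.1 y ∈ K) →
        Module.finrank (ZMod 3) K = m + 2 → (agree S K g).ncard ≤ b * M := by
    intro m b M hb hM K g hK hg hKg hd
    obtain ⟨x, hx, hxc⟩ := exists_pt hK (by omega) hc
    have h1 := finrank_cut (Q := Q) hx (hxc ▸ hc)
    refine le_trans (agree_le_step hS hQ hg hKg hx hxc hc fun g' hg' => ?_)
      (Nat.mul_le_mul_left b (hM _ (nd_cut hK hx (hxc ▸ hc)) (by omega)))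
    have hi := agree_inv hS hg hKg hQ hg'
    obtain ⟨f1, f2⟩ := cut2_facts hK (hS g' hg'.1) hi hx hxc hc
    exact hb _ _ f1 (hS g' hg'.1) (fun y hy => (hS g' hg'.1).inv_cut2 hi hy) (by omega)
  have s2 := step 0 1 2 (fun K g _ _ _ hd => agree_zero hd) fun K _ hd => pts_one hd hc
  have s4 := step 2 2 12 s2 fun K hK' hd => pts_three hK' hd hc
  have s6 := step 4 24 90 s4 fun K hK' hd => pts_five hK' hd hc
  exact ⟨s2 K h hK hh hKh, s4 K h hK hh hKh, s6 K h hK hh hKh⟩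

/-- One step of the lower bound. -/
theorem agree_ge_step {S : Set (orthGroup Q)} (hS : ∀ g ∈ S, SqNeg g)
    (hinv : ∀ u ∈ commutator (orthGroup Q), ∀ g ∈ S, u * g * u⁻¹ ∈ S)
    (hQ : (polB Q).Nondegenerate) (hK : Nd Q K) (h4 : 4 ≤ Module.finrank (ZMod 3) K) (hh : h ∈ S)
    (hKh : ∀ y ∈ K, h.1 y ∈ K) {x : V} (hx : x ∈ K) (hxc : Q x = c) (hc : c ≠ 0) :
    (agree S (cut2 (Q := Q) K x (h.1 x)) h).ncard * (pts Q (cut Q K x) c).ncard ≤
      (agree S K h).ncard := by
  classical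
  haveI := finite_orthGroup (Q := Q)
  have hA := Set.toFinite (agree S K h)
  have hW := Set.toFinite (pts Q (cut Q K x) c)
  obtain ⟨hw0, hw0c⟩ := (hS h hh).pt hKh hx hxc
  have hd := finrank_cut (Q := Q) hx (hxc ▸ hc)
  rw [Set.ncard_eq_toFinset_card _ hA, Set.ncard_eq_toFinset_card _ hW]
  refine Finset.mul_card_image_le_card_of_maps_to (f := fun g : orthGroup Q => g.1 x) (fun g hg => ?_) _
    fun w hw => ?_
  · rw [Set.Finite.mem_toFinset] at hg ⊢
    exact (hS g hg.1).pt (agree_inv hS (hS h hh) hKh hQ hg) hx hxc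
  · rw [Set.Finite.mem_toFinset] at hw
    obtain ⟨u, hu, huw, hufix⟩ := exists_move hQ hc (nd_cut hK hx (hxc ▸ hc)) (by omega) hw0 hw0c
      hw.1 hw.2
    rw [← Set.ncard_coe_finset (hA.toFinset.filter _)]
    refine Set.ncard_le_ncard_of_injOn (fun g => u * g * u⁻¹) (fun g hg => ?_)
      (fun a _ b _ e => mul_left_cancel (mul_right_cancel e)) (Set.toFinite _)
    have hux : u.1 x = x := hufix x fun y hy => by rw [polB_comm]; exact hy.2
    have hgx : g.1 x = h.1 x := hg.2 x fun y hy => by rw [polB_comm]; exact hy.1.2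
    have hui : ∀ z, u.1 z = z → (u⁻¹).1 z = z := fun z hz => by
      nth_rewrite 1 [← hz]
      exact orth_inv_apply_self u z
    rw [Finset.mem_coe, Finset.mem_filter, Set.Finite.mem_toFinset]
    refine ⟨⟨hinv u hu g hg.1, fun z hz => ?_⟩, ?_⟩
    · have huz : u.1 z = z := hufix z fun y hy => hz y hy.1
      rw [orth_mul_apply, orth_mul_apply, hui z huz, hg.2 z fun y hy => hz y hy.1.1]
      refine hufix _ fun y hy => ?_
      rw [← neg_neg (polB Q y (h.1 z)), ← (hS h hh).skew, hz _ (hKh y hy.1), neg_zero]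
    · rw [orth_mul_apply, orth_mul_apply, hui x hux, hgx, huw]

/-- Orthogonal vectors of norm `c` filling a subspace. -/
theorem exists_frame (hc : c ≠ 0) (hh : SqNeg h) : ∀ (k : ℕ) (K : Submodule (ZMod 3) V),
    Nd Q K → (∀ y ∈ K, h.1 y ∈ K) → Module.finrank (ZMod 3) K = 2 * k →
      ∃ v : Fin (2 * k) → V, (∀ i, v i ∈ K ∧ Q (v i) = c) ∧ ∀ i j, i ≠ j → polB Q (v i) (v j) = 0
  | 0, _, _, _, _ => ⟨Fin.elim0, fun i => i.elim0, fun i => i.elim0⟩
  | k + 1, K, hK, hKh, hd => by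
    obtain ⟨x, hx, hxc⟩ := exists_pt hK (by omega) hc
    obtain ⟨f1, f2⟩ := cut2_facts hK hh hKh hx hxc hc
    obtain ⟨v, hv, hvo⟩ := exists_frame hc hh k _ f1 (fun y hy => hh.inv_cut2 hKh hy) (by omega)
    refine ⟨Fin.cons x (Fin.cons (h.1 x) v), ?_, ?_⟩
    · refine Fin.cases ⟨hx, hxc⟩ (Fin.cases ⟨hKh x hx, by rw [Fin.cons_succ, Fin.cons_zero, orth_qmap,
        hxc]⟩ fun i => ?_)
      rw [Fin.cons_succ, Fin.cons_succ]
      exact ⟨(hv i).1.1.1, (hv i).2⟩
    · have a : ∀ i, polB Q x (v i) = 0 := fun i => (hv i).1.1.2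
      have b : ∀ i, polB Q (h.1 x) (v i) = 0 := fun i => (hv i).1.2
      refine Fin.cases (Fin.cases (fun e => absurd rfl e) (Fin.cases (fun _ => hh.self x) fun j _ => a j))
        (Fin.cases (Fin.cases (fun _ => ?_) (Fin.cases (fun e => absurd rfl e) fun j _ => b j))
          fun i => Fin.cases (fun _ => ?_) (Fin.cases (fun _ => ?_) fun j e => hvo i j fun e' =>
            e (by rw [e'])))
      · simp only [Fin.cons_succ, Fin.cons_zero]; rw [polB_comm]; exact hh.self x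
      · simp only [Fin.cons_succ, Fin.cons_zero]; rw [polB_comm]; exact a i
      · simp only [Fin.cons_succ, Fin.cons_zero]; rw [polB_comm]; exact b i

end H73.Disc
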