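/-
A projective reflection group over the field with three elements seen through its isometries:
shifts lift to isometries squaring to the negation.
-/
import Cfsg.Agent.H88.Disc.Defs
import Cfsg.Agent.H44.Fischer.ReflCard
import Cfsg.Agent.H73.Disc.Square

set_option autoImplicit false
set_option linter.unusedSectionVars false

namespace H73.Disc

open Cfsg H43 H99.ReflThree

universe u

local instance factThreeLift : Fact (Nat.Prime 3) := ⟨Nat.prime_three⟩

/-- A class identified with the reflections of norm `c` modulo the centre. -/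
structure Model {X : Type u} [Group X] (E : Set X) {n : ℕ}
    (Q : QuadraticForm (ZMod 3) (Fin n → ZMod 3)) (c : ZMod 3) where
  nd : (polB Q).Nondegenerate
  cne : c ≠ 0
  five : 5 ≤ n
  e : X ≃* ↥(Cfsg.reflectionSubgroup (⇑Q) c) ⧸ Subgroup.center ↥(Cfsg.reflectionSubgroup (⇑Q) c)
  image : e '' E = QuotientGroup.mk '' classSet (bridge Q c) c

variable {X : Type u} [Group X] {E : Set X} {n : ℕ} {Q : QuadraticForm (ZMod 3) (Fin n → ZMod 3)}
  {c : ZMod 3}

/-- A reflection case has a model. -/
theorem exists_model (hn : 5 ≤ n) (h : H71.Fischer.ReflCase X E n) :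
    ∃ (Q : QuadraticForm (ZMod 3) (Fin n → ZMod 3)) (c : ZMod 3), Nonempty (Model E Q c) := by
  obtain ⟨Q, hQ, c, hc, e, he⟩ := h
  exact ⟨Q, c, ⟨⟨hQ, hc, hn, e, by rw [he, classSet_eq]⟩⟩⟩

namespace Model

variable (M : Model E Q c)

/-- The projection from the reflection group. -/
def proj : ↥(Cfsg.reflectionSubgroup (⇑Q) c) →* X :=
  M.e.symm.toMonoidHom.comp (QuotientGroup.mk' _)

lemma proj_surj : Function.Surjective M.proj :=
  M.e.symm.surjective.comp QuotientGroup.mk_surjective

lemma proj_eq_one (r : ↥(Cfsg.reflectionSubgroup (⇑Q) c)) :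
    M.proj r = 1 ↔ r ∈ Subgroup.center _ := by
  rw [proj, MonoidHom.comp_apply, MulEquiv.coe_toMonoidHom, EmbeddingLike.map_eq_one_iff,
    QuotientGroup.mk'_apply, QuotientGroup.eq_one_iff]

lemma mem_iff (a : X) : a ∈ E ↔ ∃ r v, Q v = c ∧ bridge Q c r = refl Q v ∧ M.proj r = a := by
  rw [← M.e.injective.mem_set_image (s := E), M.image]
  constructor
  · rintro ⟨r, ⟨v, hv, hr⟩, h⟩
    exact ⟨r, v, hv, hr, by rw [← M.e.symm_apply_apply a, ← h]; rfl⟩
  · rintro ⟨r, v, hv, hr, rfl⟩
    exact ⟨r, ⟨v, hv, hr⟩, (M.e.apply_symm_apply _).symm⟩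

include M in
lemma five' : 5 ≤ Module.finrank (ZMod 3) (Fin n → ZMod 3) := by
  rw [Module.finrank_fin_fun]; exact M.five

include M in
lemma neg_ne_one : negOrth Q ≠ 1 := by
  intro h
  obtain ⟨v, hv⟩ := exists_qmap_eq M.nd (by have := M.five'; omega) c M.cne
  have h1 := congrArg (fun g => g.1 v) h
  simp only [negOrth_apply, orth_one_apply] at h1
  have h2 : (2 : ZMod 3) • v = 0 := by rw [two_smul]; nth_rewrite 1 [← h1]; exact neg_add_cancel v
  exact ne_zero_of_qmap (hv ▸ M.cne) ((smul_eq_zero.1 h2).resolve_left zmod_two_ne_zero)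

lemma neg_comm (g : orthGroup Q) : negOrth Q * g = g * negOrth Q :=
  orth_ext fun x => by
    rw [orth_mul_apply, orth_mul_apply, negOrth_apply, negOrth_apply, map_neg]

lemma neg_neg_orth : negOrth Q * negOrth Q = 1 :=
  orth_ext fun x => by rw [orth_mul_apply, negOrth_apply, negOrth_apply, neg_neg, orth_one_apply]

lemma center_iff (r : ↥(Cfsg.reflectionSubgroup (⇑Q) c)) :
    M.proj r = 1 ↔ bridge Q c r = 1 ∨ bridge Q c r = negOrth Q := by
  rw [M.proj_eq_one]
  refine ⟨H44.Fischer.center_scalar_refl M.nd M.five' M.cne (bridge_range Q c), ?_⟩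
  rintro (h | h) <;> refine Subgroup.mem_center_iff.2 fun g => bridge_injective Q c ?_ <;>
    rw [map_mul, map_mul, h]
  · rw [one_mul, mul_one]
  · exact (neg_comm _).symm

lemma proj_eq_iff (r r' : ↥(Cfsg.reflectionSubgroup (⇑Q) c)) :
    M.proj r = M.proj r' ↔
      bridge Q c r' = bridge Q c r ∨ bridge Q c r' = negOrth Q * bridge Q c r := by
  rw [← inv_mul_eq_one, ← map_inv, ← map_mul, M.center_iff, map_mul, map_inv, inv_mul_eq_iff_eq_mul,
    inv_mul_eq_iff_eq_mul, mul_one, neg_comm]

/-- Conjugation of members is the action of the isometries. -/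
lemma conj_mem {r s : ↥(Cfsg.reflectionSubgroup (⇑Q) c)} {v : Fin n → ZMod 3}
    (hs : bridge Q c s = refl Q v) :
    bridge Q c (r * s * r⁻¹) = refl Q ((bridge Q c r).1 v) := by
  rw [map_mul, map_mul, map_inv, hs, refl_conj]

include M in
/-- Commuting images of reflections belong to orthogonal or equal points. -/
lemma commute_iff {s t : ↥(Cfsg.reflectionSubgroup (⇑Q) c)} {v w : Fin n → ZMod 3} (hv : Q v = c)
    (hw : Q w = c) (hs : bridge Q c s = refl Q v) (ht : bridge Q c t = refl Q w) (h1 : w ≠ v)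
    (h2 : w ≠ -v) : Commute (M.proj s) (M.proj t) ↔ polB Q v w = 0 := by
  rw [← refl_commute_iff (hv ▸ M.cne) (hv.trans hw.symm) h1 h2]
  constructor
  · intro hcm
    have he : M.proj (s * t) = M.proj (t * s) := by rw [map_mul, map_mul]; exact hcm
    rcases (M.proj_eq_iff _ _).1 he with h | h <;> rw [map_mul, map_mul, hs, ht] at h
    · exact h.symm
    · exfalso
      have hne : LinearMap.ker ((polB Q v).prod (polB Q w)) ≠ ⊥ :=
        LinearMap.ker_ne_bot_of_finrank_lt (by
          rw [Module.finrank_prod, Module.finrank_self]; have := M.five'; omega)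
      obtain ⟨x, hx, hx0⟩ := Submodule.exists_mem_ne_zero_of_ne_bot hne
      have hx' := LinearMap.mem_ker.1 hx
      have hxv : polB Q x v = 0 := by rw [polB_comm]; exact congrArg Prod.fst hx'
      have hxw : polB Q x w = 0 := by rw [polB_comm]; exact congrArg Prod.snd hx'
      have h3 := congrArg (fun g => g.1 x) h
      simp only [orth_mul_apply, refl_fix hxv, refl_fix hxw, negOrth_apply] at h3
      have h4 : (2 : ZMod 3) • x = 0 := by rw [two_smul]; nth_rewrite 1 [h3]; exact neg_add_cancel x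
      exact hx0 ((smul_eq_zero.1 h4).resolve_left zmod_two_ne_zero)
  · intro h
    have h' : Commute s t := bridge_injective Q c (by rw [map_mul, map_mul, hs, ht]; exact h.eq)
    exact h'.map M.proj

/-- A shift lifts to an isometry squaring to the negation. -/
theorem shift_sqNeg {g : X} (hg : H88.Disc.IsShift E g) {r : ↥(Cfsg.reflectionSubgroup (⇑Q) c)}
    (hr : M.proj r = g) : SqNeg (bridge Q c r) := by
  set h := bridge Q c r
  have hdiag : ∀ v, Q v = c → polB Q v (h.1 v) = 0 := by
    intro v hv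
    obtain ⟨s, hs⟩ := mem_range_refl (bridge_range Q c) hv
    obtain ⟨hne, hcm⟩ := hg.2 (M.proj s) ((M.mem_iff _).2 ⟨s, v, hv, hs, rfl⟩)
    rw [← hr, ← map_inv, ← map_mul, ← map_mul] at hne hcm
    have ht := conj_mem (r := r) hs
    refine (M.commute_iff hv (by rw [orth_qmap, hv]) hs ht (fun e => hne ?_) (fun e => hne ?_)).1 hcm
    · exact congrArg M.proj (bridge_injective Q c (by rw [ht, hs, e]))
    · exact congrArg M.proj (bridge_injective Q c (by rw [ht, hs, e, refl_neg]))
  have h1 : M.proj (r * r) = 1 := by rw [map_mul, hr, hg.1]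
  rcases (M.center_iff _).1 h1 with e | e <;> rw [map_mul] at e
  · exfalso
    have hinv : ∀ x, h.1 (h.1 x) = x := fun x => by rw [← orth_mul_apply, e, orth_one_apply]
    have hsym : ∀ x y, polB Q x (h.1 y) = polB Q (h.1 x) y := fun x y => by
      rw [← orth_polB_map h x (h.1 y), hinv y]
    set P := LinearMap.ker ((h.1 : (Fin n → ZMod 3) →ₗ[ZMod 3] _) - LinearMap.id) with hP
    set N := LinearMap.ker ((h.1 : (Fin n → ZMod 3) →ₗ[ZMod 3] _) + LinearMap.id) with hN
    have hmemP : ∀ x, x ∈ P ↔ h.1 x = x := fun x => by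
      rw [hP, LinearMap.mem_ker, LinearMap.sub_apply, sub_eq_zero]; rfl
    have hmemN : ∀ x, x ∈ N ↔ h.1 x = -x := fun x => by
      rw [hN, LinearMap.mem_ker, LinearMap.add_apply, ← eq_neg_iff_add_eq_zero]; rfl
    have hno : ∀ (K : Submodule (ZMod 3) (Fin n → ZMod 3)), Nd Q K →
        2 ≤ Module.finrank (ZMod 3) K → (∀ x ∈ K, h.1 x = x ∨ h.1 x = -x) → False := by
      intro K hK hd hev
      obtain ⟨x, hx, hxc⟩ := exists_pt hK hd M.cne
      have h0 := hdiag x hxc
      have hne : polB Q x x ≠ 0 := self_ne (hxc ▸ M.cne)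
      rcases hev x hx with e | e <;> rw [e] at h0
      · exact hne h0
      · exact hne (by rwa [map_neg, neg_eq_zero] at h0)
    have hndP : Nd Q P := by
      intro x hx h0
      obtain ⟨y, hy⟩ := exists_polB_ne_zero M.nd h0
      refine ⟨-(y + h.1 y), (hmemP _).2 (by rw [map_neg, map_add, hinv, add_comm]), ?_⟩
      rw [map_neg, map_add, hsym, (hmemP x).1 hx]
      exact (by decide : ∀ t : ZMod 3, t ≠ 0 → -(t + t) ≠ 0) _ hy
    have hndN : Nd Q N := by
      intro x hx h0
      obtain ⟨y, hy⟩ := exists_polB_ne_zero M.nd h0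
      refine ⟨-(y - h.1 y), (hmemN _).2 (by rw [map_neg, map_sub, hinv]; abel), ?_⟩
      rw [map_neg, map_sub, hsym, (hmemN x).1 hx, map_neg, LinearMap.neg_apply, sub_neg_eq_add]
      exact (by decide : ∀ t : ZMod 3, t ≠ 0 → -(t + t) ≠ 0) _ hy
    have hsum : 5 ≤ Module.finrank (ZMod 3) P + Module.finrank (ZMod 3) N := by
      have htop : P ⊔ N = ⊤ := eq_top_iff.2 fun x _ => by
        have hx : x = -(x + h.1 x) + -(x - h.1 x) := by
          have h3 : (3 : ZMod 3) • x = 0 := by
            rw [show (3 : ZMod 3) = 0 from by decide, zero_smul]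
          rw [← sub_eq_zero]
          linear_combination (norm := module) h3
        rw [hx]
        exact Submodule.add_mem_sup ((hmemP _).2 (by rw [map_neg, map_add, hinv, add_comm]))
          ((hmemN _).2 (by rw [map_neg, map_sub, hinv]; abel))
      have h2 := Submodule.finrank_sup_add_finrank_inf_eq P N
      rw [htop, finrank_top] at h2
      have := M.five'
      omega
    by_cases hd : 2 ≤ Module.finrank (ZMod 3) P
    · exact hno P hndP hd fun x hx => Or.inl ((hmemP x).1 hx)
    · exact hno N hndN (by omega) fun x hx => Or.inr ((hmemN x).1 hx)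
  · intro x
    rw [← orth_mul_apply, e, negOrth_apply]

/-- The isometries above a set of group elements. -/
def lifts (P : Set X) : Set (orthGroup Q) :=
  {h | ∃ r, M.proj r ∈ P ∧ (h = bridge Q c r ∨ h = negOrth Q * bridge Q c r)}

lemma lifts_sqNeg {P : Set X} (hP : ∀ g ∈ P, H88.Disc.IsShift E g) :
    ∀ h ∈ M.lifts P, SqNeg h := by
  rintro h ⟨r, hr, rfl | rfl⟩ x
  · exact M.shift_sqNeg (hP _ hr) rfl x
  · simp only [orth_mul_apply, negOrth_apply, map_neg, M.shift_sqNeg (hP _ hr) rfl x, neg_neg]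

lemma lifts_conj {P : Set X} (hP : ∀ a ∈ commutator X, ∀ g ∈ P, a * g * a⁻¹ ∈ P) :
    ∀ u ∈ commutator (orthGroup Q), ∀ h ∈ M.lifts P, u * h * u⁻¹ ∈ M.lifts P := by
  intro u hu h hh
  rw [← map_commutator_eq M.nd M.five' M.cne (bridge_range Q c)] at hu
  obtain ⟨a, ha, rfl⟩ := hu
  have hmap : (commutator ↥(Cfsg.reflectionSubgroup (⇑Q) c)).map M.proj = commutator X := by
    rw [commutator_def, Subgroup.map_commutator, Subgroup.map_top_of_surjective _ M.proj_surj,
      commutator_def]
  have haX : M.proj a ∈ commutator X := hmap ▸ Subgroup.mem_map_of_mem _ ha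
  obtain ⟨r, hr, hh⟩ := hh
  refine ⟨a * r * a⁻¹, by rw [map_mul, map_mul, map_inv]; exact hP _ haX _ hr, ?_⟩
  rcases hh with rfl | rfl
  · left; rw [map_mul, map_mul, map_inv]
  · right
    rw [map_mul, map_mul, map_inv, ← mul_assoc (bridge Q c a) (negOrth Q), ← neg_comm]
    simp only [mul_assoc]

lemma lifts_card [Finite X] (P : Set X) : (M.lifts P).ncard = 2 * P.ncard := by
  classical
  choose L hL using M.proj_surj
  let F : X × Bool → orthGroup Q := fun p =>
    if p.2 then negOrth Q * bridge Q c (L p.1) else bridge Q c (L p.1)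
  have himg : F '' (P ×ˢ Set.univ) = M.lifts P := by
    ext h
    constructor
    · rintro ⟨⟨g, b⟩, ⟨hg, -⟩, rfl⟩
      refine ⟨L g, (hL g).symm ▸ hg, ?_⟩
      cases b <;> simp [F]
    · rintro ⟨r, hr, hh⟩
      have he : M.proj (L (M.proj r)) = M.proj r := hL _
      rcases (M.proj_eq_iff _ _).1 he with e | e <;> rcases hh with rfl | rfl
      · exact ⟨(M.proj r, false), ⟨hr, trivial⟩, by simp [F, e]⟩
      · exact ⟨(M.proj r, true), ⟨hr, trivial⟩, by simp [F, e]⟩
      · exact ⟨(M.proj r, true), ⟨hr, trivial⟩, by simp [F, e]⟩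
      · exact ⟨(M.proj r, false), ⟨hr, trivial⟩, by
          simp [F, e, ← mul_assoc, neg_neg_orth]⟩
  have hinj : Function.Injective F := by
    intro ⟨g, b⟩ ⟨g', b'⟩ he
    have hg : g = g' := by
      rw [← hL g, ← hL g', M.proj_eq_iff]
      cases b <;> cases b' <;> simp only [F, Bool.false_eq_true, if_false, if_true] at he
      · exact Or.inl he.symm
      · exact Or.inr (by rw [he, ← mul_assoc, neg_neg_orth, one_mul])
      · exact Or.inr he.symm
      · exact Or.inl (mul_left_cancel he).symm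
    subst hg
    refine Prod.ext rfl ?_
    have hne : negOrth Q * bridge Q c (L g) ≠ bridge Q c (L g) := fun e =>
      M.neg_ne_one (mul_eq_right.1 e)
    cases b <;> cases b' <;> simp only [F, Bool.false_eq_true, if_false, if_true] at he ⊢
    · exact absurd he.symm hne
    · exact absurd he hne
  rw [← himg, Set.ncard_image_of_injective _ hinj, Set.ncard_prod, Set.ncard_univ,
    Nat.card_eq_fintype_card, Fintype.card_bool, mul_comm]

end Model

end H73.Disc
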