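/-
The number of products of commuting pairs in a projective reflection group over the field with
three elements.
-/
import Cfsg.Agent.H73.Disc.Lift

set_option autoImplicit false
set_option linter.unusedSectionVars false

namespace H73.Disc

open Cfsg H43 H99.ReflThree

universe u

local instance factThreePairs : Fact (Nat.Prime 3) := ⟨Nat.prime_three⟩

variable {X : Type u} [Group X] {E : Set X} {n : ℕ} {Q : QuadraticForm (ZMod 3) (Fin n → ZMod 3)}
  {c : ZMod 3}

/-- Orthogonal pairs of points. -/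
def orthPairs (Q : QuadraticForm (ZMod 3) (Fin n → ZMod 3)) (c : ZMod 3) :
    Set ((Fin n → ZMod 3) × (Fin n → ZMod 3)) :=
  {p | Q p.1 = c ∧ Q p.2 = c ∧ polB Q p.1 p.2 = 0}

lemma nd_top (hQ : (polB Q).Nondegenerate) : Nd Q (⊤ : Submodule (ZMod 3) (Fin n → ZMod 3)) :=
  fun _ _ h0 => let ⟨y, hy⟩ := exists_polB_ne_zero hQ h0; ⟨y, trivial, hy⟩

/-- Every point has the same number of orthogonal points. -/
theorem card_orthPairs (hQ : (polB Q).Nondegenerate) (hn : 3 ≤ n) (hc : c ≠ 0)
    {x : Fin n → ZMod 3} (hx : Q x = c) :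
    (orthPairs Q c).ncard = (pts Q ⊤ c).ncard * (pts Q (cut Q ⊤ x) c).ncard := by
  classical
  have key : ∀ v, Q v = c → Nat.card (pts Q (cut Q ⊤ v) c) = Nat.card (pts Q (cut Q ⊤ x) c) := by
    intro v hv
    obtain ⟨u, -, hu, -⟩ := exists_move (K := ⊤) hQ hc (nd_top hQ)
      (by rw [finrank_top, Module.finrank_fin_fun]; exact hn) trivial hx trivial hv
    refine (Nat.card_congr (Equiv.subtypeEquiv (LinearEquiv.toEquiv u.1) fun w => ?_)).symm
    show (w ∈ cut Q ⊤ x ∧ Q w = c) ↔ u.1 w ∈ cut Q ⊤ v ∧ Q (u.1 w) = c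
    simp only [mem_cut, Submodule.mem_top, true_and, orth_qmap, ← hu, orth_polB_map]
  let e : orthPairs Q c ≃ Σ v : pts Q ⊤ c, pts Q (cut Q ⊤ (v : Fin n → ZMod 3)) c :=
    { toFun := fun p => ⟨⟨p.1.1, trivial, p.2.1⟩, ⟨p.1.2, ⟨trivial, p.2.2.2⟩, p.2.2.1⟩⟩
      invFun := fun q => ⟨(q.1.1, q.2.1), q.1.2.2, q.2.2.2, q.2.2.1.2⟩
      left_inv := fun p => rfl
      right_inv := fun q => rfl }
  haveI := Fintype.ofFinite (pts Q ⊤ c)
  rw [← Nat.card_coe_set_eq, Nat.card_congr e, Nat.card_sigma]
  refine (Finset.sum_congr rfl fun (v : pts Q ⊤ c) _ => key v v.2.2).trans ?_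
  rw [Finset.sum_const, Finset.card_univ, smul_eq_mul, ← Nat.card_eq_fintype_card, Nat.card_coe_set_eq,
    Nat.card_coe_set_eq]

/-- The vectors `± v` and `± w` from one product of two reflections. -/
lemma mem_pm {v w v' w' : Fin n → ZMod 3} (hc : c ≠ 0) (hv : Q v = c) (hw : Q w = c)
    (hvw : polB Q v w = 0) (hv' : Q v' = c) (hw' : Q w' = c) (hvw' : polB Q v' w' = 0)
    (h : refl Q v' * refl Q w' = refl Q v * refl Q w) :
    v' = v ∨ v' = -v ∨ v' = w ∨ v' = -w := by
  have h0 := congrArg (fun g => g.1 v') h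
  simp only [orth_mul_apply, refl_fix hvw', refl_self (hv' ▸ hc)] at h0
  rw [refl_apply w v', map_sub, map_smul, refl_fix (show polB Q w v = 0 by rwa [polB_comm]),
    refl_apply v v', hv, hw] at h0
  generalize c⁻¹ * polB Q v' v = a at h0
  generalize c⁻¹ * polB Q v' w = b at h0
  have hd : v' = (2 * a) • v + (2 * b) • w := by
    have h3 : (3 : ZMod 3) • v' = 0 := by
      rw [show (3 : ZMod 3) = 0 from by decide, zero_smul]
    linear_combination (norm := module) (-2 : ZMod 3) • h0 - h3
  have hn : (2 * a) * (2 * a) * c + (2 * b) * (2 * b) * c = c := by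
    have := congrArg (fun z => Q z) hd
    simp only [hv', qmap_add, qmap_smul, map_smul, LinearMap.smul_apply, hv, hw, hvw, smul_zero,
      add_zero] at this
    exact this.symm
  have hcases : (2 * a = 1 ∧ 2 * b = 0) ∨ (2 * a = -1 ∧ 2 * b = 0) ∨ (2 * a = 0 ∧ 2 * b = 1) ∨
      (2 * a = 0 ∧ 2 * b = -1) :=
    (by decide : ∀ c a b : ZMod 3, c ≠ 0 → a * a * c + b * b * c = c → (a = 1 ∧ b = 0) ∨
      (a = -1 ∧ b = 0) ∨ (a = 0 ∧ b = 1) ∨ (a = 0 ∧ b = -1)) c _ _ hc hn
  rcases hcases with ⟨e1, e2⟩ | ⟨e1, e2⟩ | ⟨e1, e2⟩ | ⟨e1, e2⟩ <;> rw [hd, e1, e2]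
  · exact Or.inl (by simp)
  · exact Or.inr (Or.inl (by simp))
  · exact Or.inr (Or.inr (Or.inl (by simp)))
  · exact Or.inr (Or.inr (Or.inr (by simp)))

namespace Model

variable (M : Model E Q c)
include M

/-- Each product comes from eight orthogonal pairs. -/
theorem card_pairProd [Finite X] : 8 * (H88.Disc.pairProd E).ncard = (orthPairs Q c).ncard := by
  classical
  have hex : ∀ v, ∃ s, Q v = c → bridge Q c s = refl Q v := fun v => by
    by_cases hv : Q v = c
    · obtain ⟨s, hs⟩ := mem_range_refl (bridge_range Q c) hv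
      exact ⟨s, fun _ => hs⟩
    · exact ⟨1, fun h => absurd h hv⟩
  choose s hs using hex
  let F : (Fin n → ZMod 3) × (Fin n → ZMod 3) → X := fun p => M.proj (s p.1 * s p.2)
  have hne : ∀ {v w}, Q v = c → polB Q v w = 0 → w ≠ v ∧ w ≠ -v := fun {v w} hv h => by
    have h1 : polB Q v v ≠ 0 := self_ne (hv ▸ M.cne)
    exact ⟨fun e => h1 (e ▸ h), fun e => h1 (by rw [e, map_neg, neg_eq_zero] at h; exact h)⟩
  have himg : F '' orthPairs Q c = H88.Disc.pairProd E := by
    ext z
    constructor
    · rintro ⟨⟨v, w⟩, ⟨hv, hw, hvw⟩, rfl⟩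
      obtain ⟨n1, n2⟩ := hne hv hvw
      refine ⟨M.proj (s v), (M.mem_iff _).2 ⟨_, v, hv, hs v hv, rfl⟩, M.proj (s w),
        (M.mem_iff _).2 ⟨_, w, hw, hs w hw, rfl⟩, fun e => ?_,
        (M.commute_iff hv hw (hs v hv) (hs w hw) n1 n2).2 hvw, (map_mul _ _ _).symm⟩
      rcases (M.proj_eq_iff _ _).1 e with h | h <;> rw [hs v hv, hs w hw] at h
      · have := congrArg (fun g => g.1 w) h
        simp only [refl_self (hw ▸ M.cne), refl_fix (show polB Q w v = 0 by rwa [polB_comm])] at this
        exact (hne hw (show polB Q w v = 0 by rwa [polB_comm])).1 (by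
          exfalso
          have h4 : (2 : ZMod 3) • w = 0 := by
            rw [two_smul]; nth_rewrite 1 [← this]; exact neg_add_cancel w
          exact ne_zero_of_qmap (hw ▸ M.cne) ((smul_eq_zero.1 h4).resolve_left zmod_two_ne_zero))
      · have hker : LinearMap.ker ((polB Q v).prod (polB Q w)) ≠ ⊥ :=
          LinearMap.ker_ne_bot_of_finrank_lt (by
            rw [Module.finrank_prod, Module.finrank_self]; have := M.five'; omega)
        obtain ⟨x, hx, hx0⟩ := Submodule.exists_mem_ne_zero_of_ne_bot hker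
        have hx' := LinearMap.mem_ker.1 hx
        have hxv : polB Q x v = 0 := by rw [polB_comm]; exact congrArg Prod.fst hx'
        have hxw : polB Q x w = 0 := by rw [polB_comm]; exact congrArg Prod.snd hx'
        have h3 := congrArg (fun g => g.1 x) h
        simp only [orth_mul_apply, refl_fix hxv, refl_fix hxw, negOrth_apply] at h3
        have h4 : (2 : ZMod 3) • x = 0 := by rw [two_smul]; nth_rewrite 1 [h3]; exact neg_add_cancel x
        exact hx0 ((smul_eq_zero.1 h4).resolve_left zmod_two_ne_zero)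
    · rintro ⟨a, ha, b, hb, hab, hcm, rfl⟩
      obtain ⟨r, v, hv, hr, rfl⟩ := (M.mem_iff a).1 ha
      obtain ⟨t, w, hw, ht, rfl⟩ := (M.mem_iff b).1 hb
      obtain rfl : r = s v := bridge_injective Q c (hr.trans (hs v hv).symm)
      obtain rfl : t = s w := bridge_injective Q c (ht.trans (hs w hw).symm)
      have hsame : ∀ u, Q u = c → bridge Q c (s u) = refl Q (-u) := fun u hu => by
        rw [hs u hu, refl_neg]
      refine ⟨(v, w), ⟨hv, hw, (M.commute_iff hv hw hr ht (fun e => hab ?_) (fun e => hab ?_)).1 hcm⟩,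
        map_mul _ _ _⟩
      · rw [e]
      · exact congrArg M.proj (bridge_injective Q c (by rw [hs w hw, hsame v hv, e]))
  have hmain : ∀ p ∈ orthPairs Q c, ∀ q ∈ orthPairs Q c, F q = F p →
      refl Q q.1 * refl Q q.2 = refl Q p.1 * refl Q p.2 := by
    rintro ⟨v, w⟩ ⟨hv, hw, hvw⟩ ⟨v', w'⟩ ⟨hv', hw', hvw'⟩ he
    have h0 := (M.proj_eq_iff _ _).1 he
    simp only [map_mul, hs v hv, hs w hw, hs v' hv', hs w' hw'] at h0
    rcases h0 with h | h
    · exact h.symm
    · exfalso
      have hker : LinearMap.ker (((polB Q v).prod (polB Q w)).prod ((polB Q v').prod (polB Q w'))) ≠ ⊥ :=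
        LinearMap.ker_ne_bot_of_finrank_lt (by
          simp only [Module.finrank_prod, Module.finrank_self]; have := M.five'; omega)
      obtain ⟨x, hx, hx0⟩ := Submodule.exists_mem_ne_zero_of_ne_bot hker
      have hx' := LinearMap.mem_ker.1 hx
      have hxv : polB Q x v = 0 := by rw [polB_comm]; exact congrArg (fun p => p.1.1) hx'
      have hxw : polB Q x w = 0 := by rw [polB_comm]; exact congrArg (fun p => p.1.2) hx'
      have hxv' : polB Q x v' = 0 := by rw [polB_comm]; exact congrArg (fun p => p.2.1) hx'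
      have hxw' : polB Q x w' = 0 := by rw [polB_comm]; exact congrArg (fun p => p.2.2) hx'
      have h3 := congrArg (fun g => g.1 x) h
      simp only [orth_mul_apply, refl_fix hxv, refl_fix hxw, refl_fix hxv', refl_fix hxw',
        negOrth_apply] at h3
      have h4 : (2 : ZMod 3) • x = 0 := by rw [two_smul]; nth_rewrite 1 [h3]; exact neg_add_cancel x
      exact hx0 ((smul_eq_zero.1 h4).resolve_left zmod_two_ne_zero)
  -- the fibres
  have hfin := Set.toFinite (orthPairs Q c)
  have hfib : ∀ z ∈ hfin.toFinset.image F, (hfin.toFinset.filter fun p => F p = z).card = 8 := by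
    intro z hz
    obtain ⟨⟨v, w⟩, hp, rfl⟩ := Finset.mem_image.1 hz
    rw [Set.Finite.mem_toFinset] at hp
    obtain ⟨hv, hw, hvw⟩ := hp
    dsimp only at hv hw hvw
    obtain ⟨n1, n2⟩ := hne hv hvw
    let φ : Bool × Bool × Bool → (Fin n → ZMod 3) × (Fin n → ZMod 3) := fun b =>
      let a := if b.2.1 then -v else v
      let a' := if b.2.2 then -w else w
      if b.1 then (a', a) else (a, a')
    have hpm : ∀ {u : Fin n → ZMod 3}, Q u = c → u ≠ -u := fun hu e => by
      have h4 := (two_smul (ZMod 3) _).trans (add_eq_zero_iff_eq_neg.2 e)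
      exact ne_zero_of_qmap (hu ▸ M.cne) ((smul_eq_zero.1 h4).resolve_left zmod_two_ne_zero)
    have n3 : v ≠ -w := fun e => n2 (by rw [e, neg_neg])
    have hφ : Function.Injective φ := by
      intro ⟨a1, a2, a3⟩ ⟨b1, b2, b3⟩ e
      have hv1 := hpm hv
      have hw1 := hpm hw
      cases a1 <;> cases a2 <;> cases a3 <;> cases b1 <;> cases b2 <;> cases b3 <;>
        simp [φ, n1, n2, n3, n1.symm, n2.symm, n3.symm, hv1, hw1, hv1.symm, hw1.symm,
          neg_inj] at e ⊢
    have hset : hfin.toFinset.filter (fun p => F p = F (v, w)) = Finset.univ.image φ := by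
      ext ⟨v', w'⟩
      rw [Finset.mem_filter, Set.Finite.mem_toFinset, Finset.mem_image]
      constructor
      · rintro ⟨⟨hv', hw', hvw'⟩, he⟩
        dsimp only at hv' hw' hvw'
        have h := hmain (v, w) ⟨hv, hw, hvw⟩ (v', w') ⟨hv', hw', hvw'⟩ he
        have h' : refl Q w' * refl Q v' = refl Q v * refl Q w := by
          rw [← h]
          obtain ⟨m1, m2⟩ := hne hv' hvw'
          exact ((refl_commute_iff (hv' ▸ M.cne) (hv'.trans hw'.symm) m1 m2).2 hvw').symm.eq
        have e1 := mem_pm M.cne hv hw hvw hv' hw' hvw' h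
        have e2 := mem_pm M.cne hv hw hvw hw' hv' (by rwa [polB_comm]) h'
        have hwv' : polB Q w' v' = 0 := by rwa [polB_comm]
        obtain ⟨m1, m2⟩ := hne hv' hvw'
        rcases e1 with rfl | rfl | rfl | rfl <;> rcases e2 with rfl | rfl | rfl | rfl <;>
          first
          | exact absurd rfl m1
          | exact absurd rfl m2
          | exact absurd (neg_neg _).symm m2
          | exact ⟨(false, false, false), Finset.mem_univ _, rfl⟩
          | exact ⟨(false, false, true), Finset.mem_univ _, rfl⟩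
          | exact ⟨(false, true, false), Finset.mem_univ _, rfl⟩
          | exact ⟨(false, true, true), Finset.mem_univ _, rfl⟩
          | exact ⟨(true, false, false), Finset.mem_univ _, rfl⟩
          | exact ⟨(true, false, true), Finset.mem_univ _, rfl⟩
          | exact ⟨(true, true, false), Finset.mem_univ _, rfl⟩
          | exact ⟨(true, true, true), Finset.mem_univ _, rfl⟩
      · rintro ⟨⟨b1, b2, b3⟩, -, hb⟩
        have hwv : polB Q w v = 0 := by rwa [polB_comm]
        have hcm : refl Q w * refl Q v = refl Q v * refl Q w :=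
          ((refl_commute_iff (hv ▸ M.cne) (hv.trans hw.symm) n1 n2).2 hvw).symm.eq
        have hpts : (v', w') ∈ orthPairs Q c := by
          rw [← hb]
          cases b1 <;> cases b2 <;> cases b3 <;>
            simp [φ, orthPairs, qmap_neg, hv, hw, hvw, hwv]
        refine ⟨hpts, congrArg M.proj (bridge_injective Q c ?_)⟩
        rw [map_mul, map_mul, hs _ hpts.1, hs _ hpts.2.1, hs v hv, hs w hw]
        cases b1 <;> cases b2 <;> cases b3 <;>
          simp only [φ, Prod.mk.injEq, if_true, if_false, Bool.false_eq_true] at hb <;>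
          obtain ⟨rfl, rfl⟩ := hb <;> simp only [refl_neg, hcm]
    rw [hset, Finset.card_image_of_injective _ hφ]
    rfl
  have hc := Finset.card_eq_sum_card_image F hfin.toFinset
  rw [Finset.sum_congr rfl hfib, Finset.sum_const, smul_eq_mul] at hc
  have hi : hfin.toFinset.image F = (Set.toFinite (H88.Disc.pairProd E)).toFinset := by
    apply Finset.coe_injective
    rw [Finset.coe_image, Set.Finite.coe_toFinset, Set.Finite.coe_toFinset, himg]
  rw [Set.ncard_eq_toFinset_card _ hfin, hc, hi, ← Set.ncard_eq_toFinset_card _, mul_comm]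

end Model

end H73.Disc
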