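/-
Twists of a reflection group over the field with three elements: only dimension eight of
hyperbolic type is left.
-/
import Cfsg.Agent.H73.Disc.Pairs
import Cfsg.Agent.H38.POmegaStd
import Cfsg.Agent.H47.OrthCongr
import Cfsg.Agent.H22.Fischer.Orth

set_option autoImplicit false
set_option linter.unusedSectionVars false

namespace H73.Disc

open Cfsg H43 H99.ReflThree

universe u

local instance factThreeTwist : Fact (Nat.Prime 3) := ⟨Nat.prime_three⟩

variable {X : Type u} [Group X] {E : Set X} {n : ℕ}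
  {Q : QuadraticForm (ZMod 3) (Fin n → ZMod 3)} {c : ZMod 3}

/-- No isometry squares to the negation in odd dimension. -/
theorem even_of_sqNeg {h : orthGroup Q} (hh : SqNeg h) : Even n := by
  by_contra hodd
  rw [Nat.not_even_iff_odd] at hodd
  have hc : (h.1 : (Fin n → ZMod 3) →ₗ[ZMod 3] _) ∘ₗ (h.1 : (Fin n → ZMod 3) →ₗ[ZMod 3] _) =
      (-1 : ZMod 3) • LinearMap.id := LinearMap.ext fun x => by
    rw [LinearMap.comp_apply, LinearMap.smul_apply, LinearMap.id_apply, neg_one_smul]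
    exact hh x
  have h2 := congrArg LinearMap.det hc
  rw [LinearMap.det_comp, LinearMap.det_smul, LinearMap.det_id, Module.finrank_fin_fun,
    hodd.neg_one_pow, mul_one] at h2
  generalize LinearMap.det (h.1 : (Fin n → ZMod 3) →ₗ[ZMod 3] _) = t at h2
  revert h2; revert t; decide

/-- The dimension and the count forced by one twist set. -/
theorem twist_dim [Finite X] (M : Model E Q c) {T : Set X} (hT : H88.Disc.Twist E T) :
    n = 8 ∧ H88.Disc.FewShifts E := by
  classical
  have := finite_orthGroup (Q := Q)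
  have hQ := M.nd
  have hc := M.cne
  have h5 := M.five
  have hdim : Module.finrank (ZMod 3) (⊤ : Submodule (ZMod 3) (Fin n → ZMod 3)) = n := by
    rw [finrank_top, Module.finrank_fin_fun]
  have hnd := nd_top hQ
  obtain ⟨x, -, hx⟩ := exists_pt hnd (by omega) hc
  obtain ⟨g₀, hg₀⟩ := hT.nonempty
  obtain ⟨r₀, hr₀⟩ := M.proj_surj g₀
  set Sg₀ := M.lifts T
  have hS : ∀ h ∈ Sg₀, SqNeg h := M.lifts_sqNeg hT.shift
  have hinv := M.lifts_conj hT.inv
  set h₀ := bridge Q c r₀
  have hh₀ : h₀ ∈ Sg₀ := ⟨r₀, hr₀.symm ▸ hg₀, Or.inl rfl⟩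
  have hK₀ : ∀ y ∈ (⊤ : Submodule (ZMod 3) (Fin n → ZMod 3)), h₀.1 y ∈ (⊤ : Submodule (ZMod 3) (Fin n → ZMod 3)) :=
    fun _ _ => trivial
  have hall : ∀ (S : Set (orthGroup Q)) (g : orthGroup Q), agree S ⊤ g = S := fun S g =>
    Set.ext fun k => ⟨fun hk => hk.1, fun hk => ⟨hk, fun z hz => by
      obtain rfl : z = 0 := eq_zero_of_polB_eq_zero hQ fun y => by
        rw [polB_comm]; exact hz y trivial
      rw [map_zero, map_zero]⟩⟩
  obtain ⟨f1, f2⟩ := cut2_facts hnd (hS _ hh₀) hK₀ (x := x) trivial hx hc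
  set r1 := (pts Q (cut Q ⊤ x) c).ncard
  set R := (pts Q ⊤ c).ncard
  have hr1 : 0 < r1 := (Set.ncard_pos (Set.toFinite _)).2 ⟨_, (hS _ hh₀).pt hK₀ trivial hx⟩
  have hOP : (orthPairs Q c).ncard = R * r1 := card_orthPairs hQ (by omega) hc hx
  have hpair := M.card_pairProd
  have hcardS : 4 * Sg₀.ncard = R * r1 := by
    rw [← hOP, ← hpair, M.lifts_card, hT.card]; ring
  have hR : 2 * 3 ^ (n - 2) ≤ R := by
    have := pts_lower hnd (by omega) c
    rwa [hdim] at this
  -- upper bounds for any set of isometries squaring to the negation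
  have hup : ∀ (S : Set (orthGroup Q)), (∀ g ∈ S, SqNeg g) → ∀ b : ℕ,
      (∀ (K : Submodule (ZMod 3) (Fin n → ZMod 3)) (g : orthGroup Q), Nd Q K → SqNeg g →
        (∀ y ∈ K, g.1 y ∈ K) → Module.finrank (ZMod 3) K + 2 = n → (agree S K g).ncard ≤ b) →
      S.ncard ≤ b * r1 := by
    intro S hS' b hb
    rw [← hall S h₀]
    refine agree_le_step hS' hQ (hS _ hh₀) hK₀ trivial hx hc fun g hg => ?_
    have hKg : ∀ y ∈ (⊤ : Submodule (ZMod 3) (Fin n → ZMod 3)), g.1 y ∈ (⊤ : Submodule (ZMod 3) (Fin n → ZMod 3)) :=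
      fun _ _ => trivial
    obtain ⟨e1, e2⟩ := cut2_facts hnd (hS' g hg.1) hKg (x := x) trivial hx hc
    exact hb _ g e1 (hS' g hg.1) (fun y hy => (hS' g hg.1).inv_cut2 hKg hy) (by omega)
  have hn : n = 8 := by
    obtain ⟨k, hk⟩ := even_of_sqNeg (hS _ hh₀)
    by_contra hne
    by_cases h6 : n = 6
    · have hb : Sg₀.ncard ≤ 24 * r1 := hup _ hS 24 fun K g hK hg hKg hd =>
        (agree_le hS hQ hc hK hg hKg).2.1 (by omega)
      have h162 : 162 ≤ R := by
        have : 2 * 3 ^ 4 ≤ R := by simpa [h6] using hR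
        norm_num at this; exact this
      nlinarith
    · have h10 : 10 ≤ n := by omega
      -- two more steps of the lower bound
      have l1 : (agree Sg₀ (cut2 (Q := Q) ⊤ x (h₀.1 x)) h₀).ncard * r1 ≤ Sg₀.ncard := by
        have := agree_ge_step hS hinv hQ hnd (by omega) hh₀ hK₀ (x := x) trivial hx hc
        rwa [hall] at this
      set K₁ := cut2 (Q := Q) ⊤ x (h₀.1 x)
      have hK₁ : ∀ y ∈ K₁, h₀.1 y ∈ K₁ := fun y hy => (hS _ hh₀).inv_cut2 hK₀ hy
      obtain ⟨x₂, hx₂, hx₂c⟩ := exists_pt f1 (by omega) hc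
      have l2 := agree_ge_step hS hinv hQ f1 (by omega) hh₀ hK₁ hx₂ hx₂c hc
      obtain ⟨f3, f4⟩ := cut2_facts f1 (hS _ hh₀) hK₁ hx₂ hx₂c hc
      set K₂ := cut2 (Q := Q) K₁ x₂ (h₀.1 x₂)
      have hK₂ : ∀ y ∈ K₂, h₀.1 y ∈ K₂ := fun y hy => (hS _ hh₀).inv_cut2 hK₁ hy
      obtain ⟨x₃, hx₃, hx₃c⟩ := exists_pt f3 (by omega) hc
      have l3 := agree_ge_step hS hinv hQ f3 (by omega) hh₀ hK₂ hx₃ hx₃c hc
      have hpos : 1 ≤ (agree Sg₀ (cut2 (Q := Q) K₂ x₃ (h₀.1 x₃)) h₀).ncard :=
        (Set.ncard_pos (Set.toFinite _)).2 ⟨h₀, hh₀, fun _ _ => rfl⟩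
      have d2 := finrank_cut (Q := Q) hx₂ (hx₂c ▸ hc)
      have d3 := finrank_cut (Q := Q) hx₃ (hx₃c ▸ hc)
      have p2 := pts_lower (nd_cut f1 hx₂ (hx₂c ▸ hc)) (by omega) c
      have p3 := pts_lower (nd_cut f3 hx₃ (hx₃c ▸ hc)) (by omega) c
      have hR' : R ≤ 3 ^ n := by
        have := pts_le_pow (Q := Q) (⊤ : Submodule (ZMod 3) (Fin n → ZMod 3)) c
        rwa [hdim] at this
      rw [show Module.finrank (ZMod 3) (cut Q K₁ x₂) - 2 = n - 5 by omega] at p2
      rw [show Module.finrank (ZMod 3) (cut Q K₂ x₃) - 2 = n - 7 by omega] at p3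
      set a₂ := (pts Q (cut Q K₁ x₂) c).ncard
      set a₃ := (pts Q (cut Q K₂ x₃) c).ncard
      have hlow : a₃ * a₂ * r1 ≤ Sg₀.ncard := by
        refine le_trans ?_ l1
        refine Nat.mul_le_mul_right r1 (le_trans ?_ l2)
        exact Nat.mul_le_mul_right a₂ (le_trans (Nat.le_mul_of_pos_left a₃ hpos) l3)
      have hmul : 4 * (a₃ * a₂) ≤ R := Nat.le_of_mul_le_mul_right (by nlinarith) hr1
      have hp : (2 * 3 ^ (n - 7)) * (2 * 3 ^ (n - 5)) ≤ a₃ * a₂ := Nat.mul_le_mul p3 p2
      have hpow : 3 ^ n = 3 ^ (n - 10) * 59049 := by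
        rw [show (59049 : ℕ) = 3 ^ 10 by norm_num, ← pow_add]; congr 1; omega
      have h7 : 3 ^ (n - 7) = 3 ^ (n - 10) * 27 := by
        rw [show (27 : ℕ) = 3 ^ 3 by norm_num, ← pow_add]; congr 1; omega
      have h5' : 3 ^ (n - 5) = 3 ^ (n - 10) * 243 := by
        rw [show (243 : ℕ) = 3 ^ 5 by norm_num, ← pow_add]; congr 1; omega
      have hP : 1 ≤ 3 ^ (n - 10) := Nat.one_le_pow _ _ (by norm_num)
      rw [h7, h5'] at hp
      rw [hpow] at hR'
      nlinarith
  refine ⟨hn, ?_⟩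
  set P := {g : X | g ∈ commutator X ∧ H88.Disc.IsShift E g}
  have hP : ∀ g ∈ P, H88.Disc.IsShift E g := fun g hg => hg.2
  have hb : (M.lifts P).ncard ≤ 2160 * r1 := hup _ (M.lifts_sqNeg hP) 2160 fun K g hK hg hKg hd =>
    (agree_le (M.lifts_sqNeg hP) hQ hc hK hg hKg).2.2 (by omega)
  rw [M.lifts_card] at hb
  have h1458 : 1458 ≤ R := by
    have : 2 * 3 ^ 6 ≤ R := by simpa [hn] using hR
    norm_num at this; exact this
  show P.ncard < 8 * (H88.Disc.pairProd E).ncard
  rw [hpair, hOP]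
  nlinarith

/-- The commutator subgroup in dimension eight. -/
theorem derived_iso [Finite X] {Q : QuadraticForm (ZMod 3) (Fin 8 → ZMod 3)} (M : Model E Q c)
    {h : orthGroup Q} (hh : SqNeg h) :
    Nonempty (↥(commutator X) ≃* Cfsg.POmega (ZMod 3) (Cfsg.quadFormPlus 4 (ZMod 3))) := by
  classical
  have hQ := M.nd
  have hc := M.cne
  obtain ⟨v, hv, hvo⟩ := exists_frame hc hh 4 ⊤ (nd_top hQ) (fun _ _ => trivial)
    (by rw [finrank_top, Module.finrank_fin_fun])
  have hvv : ∀ i, polB Q (v i) (v i) = 2 * c := fun i => by rw [polB_self, (hv i).2]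
  have hli : LinearIndependent (ZMod 3) v := by
    rw [Fintype.linearIndependent_iff]
    intro g hg i
    have h1 := congrArg (polB Q (v i)) hg
    rw [map_zero, map_sum, Finset.sum_eq_single i (fun j _ hji => by
      rw [map_smul, hvo i j (Ne.symm hji), smul_zero]) (by simp), map_smul, hvv, smul_eq_mul] at h1
    exact (mul_eq_zero.1 h1).resolve_right (mul_ne_zero zmod_two_ne_zero hc)
  let b := basisOfLinearIndependentOfCardEqFinrank hli (by rw [Module.finrank_fin_fun]; rfl)
  obtain ⟨φ, hφ⟩ := H47.equiv_of_det (F := ZMod 3) (by rw [ZMod.card]; decide) Q (qPlus 4 (ZMod 3))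
    (H44.polarSep_of_nondegenerate hQ) (H44.polarSep_of_nondegenerate (qPlus_nondeg 4))
    b (Pi.basisFun (ZMod 3) (Fin 4 ⊕ Fin 4)) (by simp) (by
      have h1 : (Matrix.of fun i j => QuadraticMap.polar (⇑Q) (b i) (b j)) =
          (2 * c) • (1 : Matrix (Fin (2 * 4)) (Fin (2 * 4)) (ZMod 3)) := by
        ext i j
        rw [Matrix.of_apply, ← polB_apply, coe_basisOfLinearIndependentOfCardEqFinrank,
          Matrix.smul_apply, Matrix.one_apply]
        by_cases hij : i = j
        · subst hij; simp [hvv]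
        · simp [hij, hvo i j hij]
      have h2 := H38.gram_plus_det (F := ZMod 3) 4
      simp only [polB_apply] at h2
      simp only [Pi.basisFun_apply]
      rw [h1, h2, Matrix.det_smul, Matrix.det_one, Fintype.card_fin]
      rw [pow_mul (2 * c) 2 4, pow_two, zmod_sq_one _ (mul_ne_zero zmod_two_ne_zero hc)]
      exact ⟨1, by decide⟩)
  let e0 : Cfsg.isometryGroup (ZMod 3) (⇑Q) ≃*
      Cfsg.isometryGroup (ZMod 3) (Cfsg.quadFormPlus 4 (ZMod 3)) :=
    (H38.isometryGroupCongr φ fun v => by rw [← hφ v, coe_qPlus]).trans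
      (H38.isometryGroupEquiv (Cfsg.quadFormPlus 4 (ZMod 3))).symm
  -- the commutator subgroup of the group is the one of the isometries modulo its centre
  have hbi := bridge_injective Q c
  have hbr := bridge_range Q c
  have hmap : (commutator ↥(Cfsg.reflectionSubgroup (⇑Q) c)).map M.proj = commutator X := by
    rw [commutator_def, Subgroup.map_commutator, Subgroup.map_top_of_surjective _ M.proj_surj,
      commutator_def]
  let p : ↥(commutator ↥(Cfsg.reflectionSubgroup (⇑Q) c)) →* ↥(commutator X) :=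
    (MulEquiv.subgroupCongr hmap).toMonoidHom.comp (M.proj.subgroupMap _)
  have hp : Function.Surjective p :=
    (MulEquiv.subgroupCongr hmap).surjective.comp (M.proj.subgroupMap_surjective _)
  have hker : p.ker = Subgroup.center _ := by
    ext z
    have hz : p z = 1 ↔ M.proj (z : ↥(Cfsg.reflectionSubgroup (⇑Q) c)) = 1 :=
      ⟨fun e => congrArg Subtype.val e, fun e => Subtype.ext e⟩
    rw [MonoidHom.mem_ker, hz, M.proj_eq_one]
    refine ⟨fun h1 => Subgroup.mem_center_iff.2 fun g => Subtype.ext (Subgroup.mem_center_iff.1 h1 g),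
      fun h1 => centralizer_derived_le_center hQ M.five' hc hbi hbr fun u hu => ?_⟩
    exact (congrArg Subtype.val (Subgroup.mem_center_iff.1 h1 ⟨u, hu⟩)).symm
  let e1 := ((QuotientGroup.quotientMulEquivOfEq hker.symm).trans
    (QuotientGroup.quotientKerEquivOfSurjective p hp)).symm
  -- commutators of the reflection group are those of the isometry group
  have hm2 : (commutator ↥(Cfsg.reflectionSubgroup (⇑Q) c)).map
      (Cfsg.reflectionSubgroup (⇑Q) c).subtype = commutator ↥(Cfsg.isometryGroup (ZMod 3) (⇑Q)) := by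
    apply Subgroup.map_injective (f := (toOrth Q).toMonoidHom) (toOrth Q).injective
    rw [Subgroup.map_map, show (toOrth Q).toMonoidHom.comp (Cfsg.reflectionSubgroup (⇑Q) c).subtype =
      bridge Q c from rfl, map_commutator_eq hQ M.five' hc hbr, commutator_def, commutator_def,
      Subgroup.map_commutator, Subgroup.map_top_of_surjective _ (toOrth Q).surjective]
  let e2 : ↥(commutator ↥(Cfsg.reflectionSubgroup (⇑Q) c)) ≃*
      ↥(commutator ↥(Cfsg.isometryGroup (ZMod 3) (⇑Q))) :=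
    ((commutator _).equivMapOfInjective _ (Subgroup.subtype_injective _)).trans
      (MulEquiv.subgroupCongr hm2)
  have hz : (Subgroup.center _).map e2.toMonoidHom = Subgroup.center _ := by
    ext y
    obtain ⟨w, rfl⟩ := e2.surjective y
    simp only [Subgroup.mem_map, MulEquiv.coe_toMonoidHom, e2.injective.eq_iff, exists_eq_right,
      Subgroup.mem_center_iff, e2.surjective.forall, ← map_mul]
  obtain ⟨e4⟩ := H22.Fischer.derived_quot_congr e0
  exact ⟨e1.trans ((QuotientGroup.congr _ _ e2 hz).trans e4)⟩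

/-- Only dimension eight of hyperbolic type carries twists. -/
theorem reflTwist : H88.Disc.ReflTwistStmt.{u} := by
  intro X _ _ E n hn hX T hT
  obtain ⟨Q, c, ⟨M⟩⟩ := exists_model hn hX
  obtain ⟨h8, hfew⟩ := twist_dim M hT
  subst h8
  refine ⟨rfl, hfew, ?_⟩
  obtain ⟨g, hg⟩ := hT.nonempty
  obtain ⟨r, hr⟩ := M.proj_surj g
  exact derived_iso M (M.shift_sqNeg (hT.shift g hg) hr)

end H73.Disc
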